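import Groth.Agent.Curves.K538.PatchRing

/-!
# NODE DEG of S11480: the rank over `k⟦X⟧[x]` of the ring of the patched curve is `d + 1`
-/

set_option autoImplicit false

universe u

open WithZero

namespace K433.DegNodes

open K538.Patch Groth.Agent.Models.FFRR

section le

variable {K : Type u} [Field K] (v : Valuation K ℤᵐ⁰)

theorem le_C_iff {n : ℤ} {a : K} : Le v n (PowerSeries.C a) ↔ v a ≤ exp n := by
  constructor
  · intro h
    have := h 0
    rwa [PowerSeries.coeff_zero_C] at this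
  · intro h i
    rw [PowerSeries.coeff_C]
    split_ifs
    · exact h
    · rw [map_zero]
      exact zero_le

theorem v_mul_inv_le {x b : K} (hx : v x = exp (-1 : ℤ)) {n : ℤ} (h : v (x⁻¹ * b) ≤ exp (n + 1)) :
    v b ≤ exp n := by
  have hx0 : x ≠ 0 := by
    rintro rfl
    rw [map_zero] at hx
    exact exp_ne_zero hx.symm
  have h1 : b = x * (x⁻¹ * b) := by rw [← mul_assoc, mul_inv_cancel₀ hx0, one_mul]
  rw [h1, map_mul, hx]
  calc exp (-1 : ℤ) * v (x⁻¹ * b) ≤ exp (-1 : ℤ) * exp (n + 1) := mul_le_mul' le_rfl h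
    _ = exp n := by rw [← exp_add]; congr 1; ring

theorem v_le_of_mul {x b : K} {e n : ℤ} (hx : v x = exp e) (h : v (x * b) ≤ exp (n + e)) :
    v b ≤ exp n := by
  have hx0 : x ≠ 0 := by
    rintro rfl
    rw [map_zero] at hx
    exact exp_ne_zero hx.symm
  have h1 : b = x⁻¹ * (x * b) := by rw [← mul_assoc, inv_mul_cancel₀ hx0, one_mul]
  rw [h1, map_mul, map_inv₀, hx, ← exp_neg]
  calc exp (-e) * v (x * b) ≤ exp (-e) * exp (n + e) := mul_le_mul' le_rfl h
    _ = exp n := by rw [← exp_add]; congr 1; ring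

end le

variable {k K ι : Type u} [Field k] [Field K] [Algebra k K] {C : Crv k K ι} (G : Glue k K ι) {x : K} {p : ι}
  {D₁ : ι →₀ ℤ}

theorem x_mem (hGp : G.Φ p (PowerSeries.C x) = PowerSeries.C x - PowerSeries.X * PowerSeries.C x⁻¹)
    (hG : ∀ P, P ≠ p → G.Φ P = RingHom.id _) (hp : C.v p x = exp (-1 : ℤ)) (hDp : D₁ p = 1)
    (hle : ∀ P, P ≠ p → C.v P x ≤ exp (D₁ P)) : PowerSeries.C x ∈ M C G D₁ := by
  intro P
  by_cases hP : P = p
  · subst hP
    rw [hGp, hDp]
    refine Le.sub ?_ ?_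
    · rw [le_C_iff, hp]
      exact exp_le_exp.mpr (by norm_num)
    · rw [le_X_mul_iff, le_C_iff, map_inv₀, hp, ← exp_neg]
      exact exp_le_exp.mpr (by norm_num)
  · rw [hG P hP]
    change Le _ _ (PowerSeries.C x)
    rw [le_C_iff]
    exact hle P hP

/-- (F3) -/
theorem mem_of_mul (hGp : G.Φ p (PowerSeries.C x) = PowerSeries.C x - PowerSeries.X * PowerSeries.C x⁻¹)
    (hG : ∀ P, P ≠ p → G.Φ P = RingHom.id _) (hp : C.v p x = exp (-1 : ℤ)) (hDp : D₁ p = 1)
    (heq : ∀ P, P ≠ p → D₁ P ≠ 0 → C.v P x = exp (D₁ P)) {n : ℕ} {f : PowerSeries K}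
    (hf : f ∈ M C G ((n + 1) • D₁)) (hxf : PowerSeries.C x * f ∈ M C G ((n + 1) • D₁)) :
    f ∈ M C G (n • D₁) := by
  intro P i
  have e1 : ((n + 1) • D₁) P = (n + 1) * D₁ P := by simp
  have e2 : (n • D₁) P = n * D₁ P := by simp
  have h1 := hf P
  have h2 := hxf P
  rw [e1] at h1 h2
  rw [e2]
  by_cases hP : P = p
  · subst hP
    rw [map_mul, hGp] at h2
    rw [hDp, mul_one] at h1 h2 ⊢
    have h3 := h2 (i + 1)
    have h4 := h1 (i + 1)
    rw [sub_mul, map_sub, mul_assoc, PowerSeries.coeff_succ_X_mul, PowerSeries.coeff_C_mul,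
      PowerSeries.coeff_C_mul] at h3
    have h5 : C.v P (x * PowerSeries.coeff (i + 1) (G.Φ P f)) ≤ exp ((n : ℤ) + 1) := by
      rw [map_mul, hp]
      calc exp (-1 : ℤ) * C.v P (PowerSeries.coeff (i + 1) (G.Φ P f)) ≤ exp (-1 : ℤ) * exp ((n : ℤ) + 1) :=
            mul_le_mul' le_rfl h4
        _ = exp (n : ℤ) := by rw [← exp_add]; congr 1; ring
        _ ≤ exp ((n : ℤ) + 1) := exp_le_exp.mpr (by lia)
    refine v_mul_inv_le (C.v P) hp ?_
    have h6 : x⁻¹ * PowerSeries.coeff i (G.Φ P f) = x * PowerSeries.coeff (i + 1) (G.Φ P f) -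
        (x * PowerSeries.coeff (i + 1) (G.Φ P f) - x⁻¹ * PowerSeries.coeff i (G.Φ P f)) := by ring
    rw [h6]
    exact ((C.v P).map_sub _ _).trans (max_le h5 h3)
  · rw [hG P hP] at h1 h2 ⊢
    change C.v P (PowerSeries.coeff i f) ≤ _
    have h3 : C.v P (PowerSeries.coeff i f) ≤ exp (((n : ℤ) + 1) * D₁ P) := h1 i
    have h4 : C.v P (PowerSeries.coeff i (PowerSeries.C x * f)) ≤ exp (((n : ℤ) + 1) * D₁ P) := h2 i
    by_cases h0 : D₁ P = 0
    · rw [h0, mul_zero] at h3 ⊢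
      exact h3
    · rw [PowerSeries.coeff_C_mul] at h4
      refine v_le_of_mul (C.v P) (heq P hP h0) ?_
      convert h4 using 2
      ring

/-- Descending induction with (F3). -/
theorem mem_of_pow_mul (hx : PowerSeries.C x ∈ M C G D₁)
    (hF : ∀ (n : ℕ) (f : PowerSeries K), f ∈ M C G ((n + 1) • D₁) → PowerSeries.C x * f ∈ M C G ((n + 1) • D₁) →
      f ∈ M C G (n • D₁)) {n : ℕ} (m : ℕ) {f : PowerSeries K} (hf : f ∈ M C G ((n + 1) • D₁))
    (h : PowerSeries.C x ^ m * f ∈ M C G ((n + m) • D₁)) : f ∈ M C G (n • D₁) := by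
  induction m with
  | zero => simpa using h
  | succ m ih =>
    apply ih
    apply hF
    · have := mul_mem_M C G (pow_mem_M hx m) hf
      rw [← add_nsmul] at this
      convert this using 2
      ring_nf
    · rw [← mul_assoc, ← pow_succ']
      exact h

/-- A linear relation over `k⟦X⟧[x]` between elements independent modulo `M (n D₁)` is trivial. -/
theorem relation_trivial (hD : 0 ≤ D₁) (hx : PowerSeries.C x ∈ M C G D₁)
    (hF : ∀ (n : ℕ) (f : PowerSeries K), f ∈ M C G ((n + 1) • D₁) → PowerSeries.C x * f ∈ M C G ((n + 1) • D₁) →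
      f ∈ M C G (n • D₁)) {n r : ℕ} (e : Fin r → PowerSeries K) (he : ∀ i, e i ∈ M C G ((n + 1) • D₁))
    (hind : ∀ c : Fin r → PowerSeries k, ∑ i, c i • e i ∈ M C G (n • D₁) → c = 0)
    (c : Fin r → Polynomial (PowerSeries k))
    (hc : ∑ i, Polynomial.aeval (PowerSeries.C x) (c i) * e i = 0) : c = 0 := by
  classical
  suffices H : ∀ m : ℕ, ∀ c : Fin r → Polynomial (PowerSeries k), (∀ i j, m ≤ j → (c i).coeff j = 0) →
      ∑ i, Polynomial.aeval (PowerSeries.C x) (c i) * e i = 0 → c = 0 by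
    refine H ((Finset.univ.sup fun i => (c i).natDegree) + 1) c (fun i j hj => ?_) hc
    apply Polynomial.coeff_eq_zero_of_natDegree_lt
    have := Finset.le_sup (f := fun i => (c i).natDegree) (Finset.mem_univ i)
    lia
  intro m
  induction m with
  | zero =>
    intro c hdeg _
    funext i
    ext j : 1
    rw [hdeg i j (Nat.zero_le _)]
    rfl
  | succ m ih =>
    intro c hdeg hc
    have hnat : ∀ i, (c i).natDegree < m + 1 := fun i =>
      Nat.lt_succ_of_le (Polynomial.natDegree_le_iff_coeff_eq_zero.mpr fun N hN => hdeg i N hN)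
    -- the leading coefficients
    have hlead : (fun i => (c i).coeff m) = 0 := by
      apply hind
      have hu : ∀ j : ℕ, ∑ i, (c i).coeff j • e i ∈ M C G ((n + 1) • D₁) := fun j =>
        Submodule.sum_mem _ fun i _ => (M C G _).smul_mem _ (he i)
      apply mem_of_pow_mul G hx hF m (hu m)
      have h1 : ∑ i, Polynomial.aeval (PowerSeries.C x) (c i) * e i =
          ∑ j ∈ Finset.range (m + 1), PowerSeries.C x ^ j * ∑ i, (c i).coeff j • e i := by
        simp_rw [Finset.mul_sum]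
        rw [Finset.sum_comm]
        refine Finset.sum_congr rfl fun i _ => ?_
        rw [Polynomial.aeval_eq_sum_range' (hnat i), Finset.sum_mul]
        refine Finset.sum_congr rfl fun j _ => ?_
        rw [K538.Patch.smul_eq, K538.Patch.smul_eq]
        ring
      rw [h1, Finset.sum_range_succ] at hc
      have h2 : PowerSeries.C x ^ m * ∑ i, (c i).coeff m • e i =
          - ∑ j ∈ Finset.range m, PowerSeries.C x ^ j * ∑ i, (c i).coeff j • e i :=
        eq_neg_of_add_eq_zero_right hc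
      rw [h2]
      refine (M C G _).neg_mem (Submodule.sum_mem _ fun j hj => ?_)
      have hj' := Finset.mem_range.mp hj
      refine M_mono C G ?_ (mul_mem_M C G (pow_mem_M hx j) (hu j))
      rw [← add_nsmul]
      exact nsmul_le hD (by lia)
    refine ih c (fun i j hj => ?_) hc
    rcases Nat.eq_or_lt_of_le hj with rfl | h
    · exact congrFun hlead i
    · exact hdeg i j h

section growth

variable [Nonempty ι] (hC : C.Fin) (h0 : C.l 0 = 1) {d : ℕ} (hd : C.deg D₁ = d + 1)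
include hC h0 hd

/-- Growth of the modules `M (n D₁)`. -/
theorem exists_growth : ∃ N : ℕ, ∀ n : ℕ, N ≤ n → Module.Finite (PowerSeries k) (M C G (n • D₁)) ∧
    (Module.finrank (PowerSeries k) (M C G (n • D₁)) : ℤ) = n * (d + 1) + 1 - C.i 0 := by
  obtain ⟨c, -, hc⟩ := hC.exists_bound
  refine ⟨c.toNat + 2 * C.i 0, fun n hn => ?_⟩
  have hdeg : C.deg (n • D₁) = n * (d + 1) := by
    rw [map_nsmul, hd, nsmul_eq_mul]
  have h1 : c ≤ C.deg (n • D₁) := by
    rw [hdeg]
    have h2 : c ≤ n := by lia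
    nlinarith
  have hg : Good C (n • D₁) := good_of_i_eq_zero C hC (hc _ h1)
  refine ⟨finite_M G hC hg, ?_⟩
  rw [finrank_M G hC hg, hC.l_eq h0 (by rw [hdeg]; have h2 : 2 * (C.i 0 : ℤ) ≤ n := by lia
                                        nlinarith), hdeg]

/-- `d + 1` elements which are linearly independent modulo `M (n D₁)`. -/
theorem exists_indep (hD : 0 ≤ D₁) : ∃ (n : ℕ) (e : Fin (d + 1) → PowerSeries K),
    (∀ i, e i ∈ M C G ((n + 1) • D₁)) ∧
      ∀ c : Fin (d + 1) → PowerSeries k, ∑ i, c i • e i ∈ M C G (n • D₁) → c = 0 := by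
  obtain ⟨N, hN⟩ := exists_growth G hC h0 hd
  obtain ⟨hf0, hr0⟩ := hN N le_rfl
  obtain ⟨hf1, hr1⟩ := hN (N + 1) (by lia)
  have hle : M C G (N • D₁) ≤ M C G ((N + 1) • D₁) := M_mono C G (nsmul_le hD (by lia))
  have hr : Module.finrank (PowerSeries k)
      (M C G ((N + 1) • D₁) ⧸ (M C G (N • D₁)).submoduleOf (M C G ((N + 1) • D₁))) = d + 1 := by
    rw [Submodule.finrank_quotient,
      (Submodule.submoduleOfEquivOfLe hle).finrank_eq]
    push_cast at hr1
    have : (Module.finrank (PowerSeries k) (M C G ((N + 1) • D₁)) : ℤ) =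
      Module.finrank (PowerSeries k) (M C G (N • D₁)) + (d + 1) := by rw [hr0, hr1]; ring
    lia
  obtain ⟨q, hq⟩ := exists_linearIndependent_of_le_finrank hr.ge
  choose e he using fun i => Submodule.mkQ_surjective _ (q i)
  refine ⟨N, fun i => (e i : PowerSeries K), fun i => (e i).2, fun c hc => ?_⟩
  funext i
  refine Fintype.linearIndependent_iff.mp hq c ?_ i
  simp_rw [← he, ← map_smul, ← map_sum]
  rw [Submodule.mkQ_apply, Submodule.Quotient.mk_eq_zero]
  change ((∑ i, c i • e i : M C G ((N + 1) • D₁)) : PowerSeries K) ∈ M C G (N • D₁)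
  simpa using hc

theorem exists_relation (hD : 0 ≤ D₁) (hx : PowerSeries.C x ∈ M C G D₁) (e : Fin (d + 2) → PowerSeries K)
    (he : ∀ i, ∃ n : ℕ, e i ∈ M C G (n • D₁)) :
    ∃ c : Fin (d + 2) → Polynomial (PowerSeries k), c ≠ 0 ∧
      ∑ i, Polynomial.aeval (PowerSeries.C x) (c i) * e i = 0 := by
  classical
  obtain ⟨N, hN⟩ := exists_growth G hC h0 hd
  choose n hn using he
  obtain ⟨n₁, hn₁, hNn⟩ : ∃ n₁ : ℕ, (∀ i, e i ∈ M C G (n₁ • D₁)) ∧ N ≤ n₁ := by
    refine ⟨N + Finset.univ.sup n, fun i => M_mono C G (nsmul_le hD ?_) (hn i), by lia⟩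
    have := Finset.le_sup (f := n) (Finset.mem_univ i)
    lia
  set m := n₁ * (d + 1) with hm
  obtain ⟨hf, hr⟩ := hN (n₁ + m) (by lia)
  have hv : ∀ t : Fin (d + 2) × Fin (m + 1), PowerSeries.C x ^ (t.2 : ℕ) * e t.1 ∈ M C G ((n₁ + m) • D₁) := by
    rintro ⟨i, j⟩
    refine M_mono C G ?_ (mul_mem_M C G (pow_mem_M hx j) (hn₁ i))
    rw [← add_nsmul]
    have := j.2
    exact nsmul_le hD (by lia)
  have hdep : ¬ LinearIndependent (PowerSeries k) fun t : Fin (d + 2) × Fin (m + 1) =>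
      (⟨_, hv t⟩ : M C G ((n₁ + m) • D₁)) := by
    intro hli
    have h1 := hli.fintype_card_le_finrank
    rw [Fintype.card_prod, Fintype.card_fin, Fintype.card_fin] at h1
    have h2 : (((d + 2) * (m + 1) : ℕ) : ℤ) ≤ (n₁ + m : ℕ) * (d + 1) + 1 - C.i 0 := by
      rw [← hr]
      exact_mod_cast h1
    push_cast at h2
    have h3 : (m : ℤ) = n₁ * (d + 1) := by rw [hm]; push_cast; ring
    nlinarith
  rw [Fintype.not_linearIndependent_iff] at hdep
  obtain ⟨g, hg, ⟨i₀, j₀⟩, hne⟩ := hdep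
  refine ⟨fun i => ∑ j : Fin (m + 1), Polynomial.C (g (i, j)) * Polynomial.X ^ (j : ℕ), ?_, ?_⟩
  · intro h
    apply hne
    have h1 := congrArg (fun q : Polynomial (PowerSeries k) => q.coeff (j₀ : ℕ)) (congrFun h i₀)
    simp only [Polynomial.finsetSum_coeff, Polynomial.coeff_C_mul, Polynomial.coeff_X_pow, Pi.zero_apply,
      Polynomial.coeff_zero, mul_ite, mul_one, mul_zero] at h1
    rw [Finset.sum_eq_single j₀] at h1
    · simpa using h1
    · intro b _ hb
      rw [if_neg]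
      intro h2
      exact hb (Fin.ext h2.symm)
    · intro h2
      exact absurd (Finset.mem_univ _) h2
  · have h1 := congrArg (fun t : M C G ((n₁ + m) • D₁) => (t : PowerSeries K)) hg
    simp only [Submodule.coe_sum, Submodule.coe_smul, Submodule.coe_zero, Fintype.sum_prod_type] at h1
    rw [← h1]
    refine Finset.sum_congr rfl fun i _ => ?_
    rw [map_sum, Finset.sum_mul]
    refine Finset.sum_congr rfl fun j _ => ?_
    rw [map_mul, map_pow, Polynomial.aeval_X, Polynomial.aeval_C, K538.Patch.smul_eq]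
    ring

end growth

/-- **NODE DEG.** -/
theorem deg_nodes {k K ι : Type u} [Field k] [Field K] [Algebra k K] [Nonempty ι] {C : Crv k K ι} (hC : C.Fin)
    (G : Glue k K ι) (h0 : C.l 0 = 1) (x : K) (p : ι) (D₁ : ι →₀ ℤ) (d : ℕ) (hd : C.deg D₁ = d + 1)
    (hD : 0 ≤ D₁) (hGp : G.Φ p (PowerSeries.C x) = PowerSeries.C x - PowerSeries.X * PowerSeries.C x⁻¹)
    (hG : ∀ P, P ≠ p → G.Φ P = RingHom.id _) (hp : C.v p x = exp (-1 : ℤ)) (hDp : D₁ p = 1)
    (hle : ∀ P, P ≠ p → C.v P x ≤ exp (D₁ P)) (heq : ∀ P, P ≠ p → D₁ P ≠ 0 → C.v P x = exp (D₁ P)) :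
    (∃ e : Fin (d + 1) → PowerSeries K, (∀ i, ∃ n : ℕ, e i ∈ M C G (n • D₁)) ∧
      ∀ c : Fin (d + 1) → Polynomial (PowerSeries k),
        ∑ i, Polynomial.aeval (PowerSeries.C x) (c i) * e i = 0 → c = 0) ∧
    (∀ e : Fin (d + 2) → PowerSeries K, (∀ i, ∃ n : ℕ, e i ∈ M C G (n • D₁)) →
      ∃ c : Fin (d + 2) → Polynomial (PowerSeries k), c ≠ 0 ∧
        ∑ i, Polynomial.aeval (PowerSeries.C x) (c i) * e i = 0) := by
  have hx : PowerSeries.C x ∈ M C G D₁ := x_mem G hGp hG hp hDp hle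
  have hF : ∀ (n : ℕ) (f : PowerSeries K), f ∈ M C G ((n + 1) • D₁) → PowerSeries.C x * f ∈ M C G ((n + 1) • D₁) →
      f ∈ M C G (n • D₁) := fun n f hf hxf => mem_of_mul G hGp hG hp hDp heq hf hxf
  refine ⟨?_, fun e he => exists_relation G hC h0 hd hD hx e he⟩
  obtain ⟨n, e, he, hind⟩ := exists_indep G hC h0 hd hD
  exact ⟨e, fun i => ⟨n + 1, he i⟩, fun c hc => relation_trivial G hD hx hF e he hind c hc⟩

end K433.DegNodes
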